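import Cfsg.Agent.ThLB32.FiveData

/-! Generated: products of pieces. -/

set_option autoImplicit false
set_option maxRecDepth 100000
set_option Elab.async false

namespace CfsgLib.ThLB32.Five

theorem mul2 : mulOK m0 m1 m2 = true := by
  decide +kernel

theorem mul4 : mulOK m2 m3 m4 = true := by
  decide +kernel

theorem mul6 : mulOK m4 m5 m6 = true := by
  decide +kernel

theorem mul9 : mulOK m7 m8 m9 = true := by
  decide +kernel

theorem mul10 : mulOK m6 m9 m10 = true := by
  decide +kernel

theorem mul12 : mulOK m11 m0 m12 = true := by
  decide +kernel

theorem mul13 : mulOK m12 m1 m13 = true := by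
  decide +kernel

theorem mul15 : mulOK m13 m14 m15 = true := by
  decide +kernel

theorem mul16 : mulOK m10 m15 m16 = true := by
  decide +kernel

theorem mul19 : mulOK m17 m18 m19 = true := by
  decide +kernel

theorem mul22 : mulOK m20 m21 m22 = true := by
  decide +kernel

end CfsgLib.ThLB32.Five
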