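import Cfsg.Agent.ThLB32.FiveLeaves
import Cfsg.Agent.ThLB32.FiveMuls

/-! Generated: the divisibility of the order of Th by 5^3. -/

set_option autoImplicit false
set_option maxRecDepth 100000

namespace CfsgLib.ThLB32.Five

theorem good0 : GoodMats [w0] [m0] := goodMats_of_matsOK leaf0

theorem good1 : GoodMats [w1] [m1] := goodMats_of_matsOK leaf1

theorem good2 : GoodMats [w2] [m2] :=
  goodMats_append good0 good1 mul2

theorem good3 : GoodMats [w3] [m3] := goodMats_of_matsOK leaf3

theorem good4 : GoodMats [w4] [m4] :=
  goodMats_append good2 good3 mul4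

theorem good5 : GoodMats [w5] [m5] := goodMats_of_matsOK leaf5

theorem good6 : GoodMats [w6] [m6] :=
  goodMats_append good4 good5 mul6

theorem good7 : GoodMats [w7] [m7] := goodMats_of_matsOK leaf7

theorem good8 : GoodMats [w8] [m8] := goodMats_of_matsOK leaf8

theorem good9 : GoodMats [w9] [m9] :=
  goodMats_append good7 good8 mul9

theorem good10 : GoodMats [w10] [m10] :=
  goodMats_append good6 good9 mul10

theorem good11 : GoodMats [w11] [m11] := goodMats_of_matsOK leaf11

theorem good12 : GoodMats [w12] [m12] :=
  goodMats_append good11 good0 mul12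

theorem good13 : GoodMats [w13] [m13] :=
  goodMats_append good12 good1 mul13

theorem good14 : GoodMats [w14] [m14] := goodMats_of_matsOK leaf14

theorem good15 : GoodMats [w15] [m15] :=
  goodMats_append good13 good14 mul15

theorem good16 : GoodMats [w16] [m16] :=
  goodMats_append good10 good15 mul16

theorem good17 : GoodMats [w17] [m17] := goodMats_of_matsOK leaf17

theorem good18 : GoodMats [w18] [m18] := goodMats_of_matsOK leaf18

theorem good19 : GoodMats [w19] [m19] :=
  goodMats_append good17 good18 mul19

theorem good20 : GoodMats [w20] [m20] := goodMats_of_matsOK leaf20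

theorem good21 : GoodMats [w21] [m21] := goodMats_of_matsOK leaf21

theorem good22 : GoodMats [w22] [m22] :=
  goodMats_append good20 good21 mul22

theorem step0 : stepOK ks0 ms0 [1, 2] pts0 img0 par0 = true := by
  decide +kernel

theorem step1 : stepOK ks1 ms1 [] pts1 img1 par1 = true := by
  decide +kernel

theorem dvd : 5 ^ 3 ∣ Nat.card Cfsg.Spor.Th := by
  have h2 : 1 ∣ Nat.card (gK (([] : List ℕ).map fun j => ks1.getD j [])) := one_dvd _
  have h1 : 120 * 1 ∣ Nat.card (gK ks1) := dvd_step_good (goodMats_cons good19 (goodMats_cons good22 (goodMats_of_matsOK (show matsOK [] [] = true from rfl)))) step1 h2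
  have h0 : 25 * (120 * 1) ∣ Nat.card (gK ks0) := dvd_step_good (goodMats_cons good16 (goodMats_cons good19 (goodMats_cons good22 (goodMats_of_matsOK (show matsOK [] [] = true from rfl))))) step0 h1
  refine Dvd.dvd.trans ?_ (dvd_top h0)
  norm_num

end CfsgLib.ThLB32.Five
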