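import Cfsg.Agent.ThRep32.Rep

/-!
Orbit certificates for lower bounds on subgroups of the presented Thompson group: a list of
distinct packed vectors closed under the generators and connected by them gives a factor of the
order of the generated subgroup.
-/

set_option autoImplicit false
set_option maxRecDepth 100000

namespace CfsgLib.ThLB32

open Matrix CfsgLib.ThRep32

/-- the value of a word in the presented group -/
def val (w : List ℕ) : Cfsg.Spor.Th := (w.map letter).prod

/-- the subgroup generated by some words -/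
def gK (ks : List (List ℕ)) : Subgroup Cfsg.Spor.Th :=
  Subgroup.closure {g | ∃ w ∈ ks, val w = g}

/-- two packed vectors are the same -/
def eqP (x y : ℕ × ℕ) : Bool := Nat.beq x.1 y.1 && Nat.beq x.2 y.2

/-- a packed vector within range -/
def smallB (x : ℕ × ℕ) : Bool := goodB x && Nat.blt x.1 (2 ^ 248) && Nat.blt x.2 (2 ^ 248)

/-- no two packed vectors of the list are the same -/
def distinctB : List (ℕ × ℕ) → Bool
  | [] => true
  | x :: l => (l.all fun y => !eqP x y) && distinctB l

/-- the packed rows are those of the words -/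
def matsOK : List (List ℕ) → List (List (ℕ × ℕ)) → Bool
  | [], [] => true
  | k :: ks, m :: ms =>
    k.all (fun x => Nat.blt x 11) && packOK m &&
      sameS (runM matL k) (tab fun i => m.getD i (0, 0)) && matsOK ks ms
  | _, _ => false

/-- the images of the listed vectors under the generators are the listed ones -/
def imgOK (pts : List (ℕ × ℕ)) : List (List (ℕ × ℕ)) → List (List ℕ) → Bool
  | [], [] => true
  | m :: ms, r :: rs =>
    Nat.beq r.length pts.length &&
      ((pts.zip r).all fun q => Nat.blt q.2 pts.length &&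
        eqP (goV m q.1.1 q.1.2) (pts.getD q.2 (0, 0))) && imgOK pts ms rs
  | _, _ => false

/-- the vector numbered `i`, `i + 1`, … is an image of an earlier one -/
def parOK (img : List (List ℕ)) (n : ℕ) : List (ℕ × ℕ) → ℕ → Bool
  | [], i => Nat.beq i n
  | q :: l, i =>
    Nat.blt q.1 i && Nat.blt q.2 img.length && Nat.beq ((img.getD q.2 []).getD q.1 0) i &&
      parOK img n l (i + 1)

/-- the generators of the smaller group fix the first vector -/
def fixOK (ks : List (List ℕ)) (img : List (List ℕ)) (qs : List ℕ) : Bool :=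
  qs.all fun j => Nat.blt j ks.length && Nat.blt j img.length && Nat.beq ((img.getD j []).getD 0 0) 0

/-- one level of a chain: `pts` is an orbit of the group of `ks`, `qs` numbers some of the
generators fixing the first vector -/
def stepOK (ks : List (List ℕ)) (ms : List (List (ℕ × ℕ))) (qs : List ℕ) (pts : List (ℕ × ℕ))
    (img : List (List ℕ)) (par : List (ℕ × ℕ)) : Bool :=
  Nat.blt 0 pts.length && pts.all smallB && distinctB pts && imgOK pts ms img &&
    parOK img pts.length par 1 && fixOK ks img qs && Nat.beq ks.length img.length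

theorem val_mem {ks : List (List ℕ)} {w : List ℕ} (h : w ∈ ks) : val w ∈ gK ks :=
  Subgroup.subset_closure ⟨w, h, rfl⟩

theorem dvd_top {ks : List (List ℕ)} {d : ℕ} (h : d ∣ Nat.card (gK ks)) :
    d ∣ Nat.card Cfsg.Spor.Th :=
  h.trans (Subgroup.card_subgroup_dvd_card _)

theorem eqP_iff {x y : ℕ × ℕ} : eqP x y = true ↔ x = y := by
  rw [eqP, Bool.and_eq_true, Nat.beq_eq, Nat.beq_eq, Prod.ext_iff]

/-- the vector times the image of a group element -/
noncomputable def mv (g : Cfsg.Spor.Th) (v : Fin 248 → ZMod 3) : Fin 248 → ZMod 3 :=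
  v ᵥ* ((rep g : GL (Fin 248) (ZMod 3)) : Matrix (Fin 248) (Fin 248) (ZMod 3))

theorem mv_one (v : Fin 248 → ZMod 3) : mv 1 v = v := by
  simp [mv]

theorem mv_mul (g h : Cfsg.Spor.Th) (v : Fin 248 → ZMod 3) : mv (g * h) v = mv h (mv g v) := by
  simp [mv, vecMul_vecMul]

/-- the packed rows of some words are right -/
def GoodMats (ks : List (List ℕ)) (ms : List (List (ℕ × ℕ))) : Prop :=
  List.Forall₂ (fun k m => packOK m = true ∧ ∀ a b : Fin 248, dg (m.getD a (0, 0)) b =
    ((rep (val k) : GL (Fin 248) (ZMod 3)) : Matrix (Fin 248) (Fin 248) (ZMod 3)) a b) ks ms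

theorem goodMats_of_matsOK : ∀ {ks : List (List ℕ)} {ms : List (List (ℕ × ℕ))},
    matsOK ks ms = true → GoodMats ks ms
  | [], [], _ => List.Forall₂.nil
  | [], _ :: _, h => by simp [matsOK] at h
  | _ :: _, [], h => by simp [matsOK] at h
  | w :: ks, m :: ms, h => by
    simp only [matsOK, Bool.and_eq_true] at h
    obtain ⟨⟨⟨-, hpk⟩, hsame⟩, h'⟩ := h
    refine List.Forall₂.cons ⟨hpk, fun a b => ?_⟩ (goodMats_of_matsOK h')
    have e' := List.all_eq_true.mp hsame a (List.mem_range.mpr a.isLt)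
    rw [Bool.and_eq_true, Nat.beq_eq, Nat.beq_eq, get_tab _ (by omega : (a : ℕ) < 256)] at e'
    have := (rep_word w a).2 b
    rw [Prod.ext e'.1 e'.2] at this
    rw [this, val, rep_prod]

/-- the rows of a product -/
def mulOK (m1 m2 m : List (ℕ × ℕ)) : Bool :=
  packOK m && (List.range 248).all fun i =>
    eqP (goV m2 (m1.getD i (0, 0)).1 (m1.getD i (0, 0)).2) (m.getD i (0, 0))

theorem dg_mul_row {m2 : List (ℕ × ℕ)} {M1 M2 : Matrix (Fin 248) (Fin 248) (ZMod 3)}
    (h2 : packOK m2 = true) (hM2 : ∀ a b : Fin 248, dg (m2.getD a (0, 0)) b = M2 a b)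
    {v : ℕ × ℕ} {a : Fin 248} (hv : ∀ c : Fin 248, dg v c = M1 a c) (b : Fin 248) :
    dg (goV m2 v.1 v.2) b = (M1 * M2) a b := by
  have e : dg (goV m2 v.1 v.2) b = ∑ c : Fin 248, dg v c * M2 c b :=
    congrFun (vecOf_goV h2 hM2 v) b
  rw [e, Matrix.mul_apply]
  exact Finset.sum_congr rfl fun c _ => by rw [hv c]

theorem goodMats_append {k1 k2 : List ℕ} {m1 m2 m : List (ℕ × ℕ)} (h1 : GoodMats [k1] [m1])
    (h2 : GoodMats [k2] [m2]) (h : mulOK m1 m2 m = true) : GoodMats [k1 ++ k2] [m] := by
  rw [GoodMats, List.forall₂_cons] at h1 h2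
  rw [mulOK, Bool.and_eq_true] at h
  have hval : val (k1 ++ k2) = val k1 * val k2 := by
    rw [val, val, val, List.map_append, List.prod_append]
  refine List.Forall₂.cons ⟨h.1, fun a b => ?_⟩ List.Forall₂.nil
  rw [← eqP_iff.mp (List.all_eq_true.mp h.2 a (List.mem_range.mpr a.isLt)), hval, map_mul,
    Units.val_mul]
  exact dg_mul_row h2.1.1 h2.1.2 (h1.1.2 a) b

theorem goodMats_cons {k : List ℕ} {m : List (ℕ × ℕ)} {ks : List (List ℕ)}
    {ms : List (List (ℕ × ℕ))} (h1 : GoodMats [k] [m]) (h2 : GoodMats ks ms) :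
    GoodMats (k :: ks) (m :: ms) := by
  rw [GoodMats, List.forall₂_cons] at h1
  exact List.Forall₂.cons h1.1 h2

theorem img_spec : ∀ {ks : List (List ℕ)} {ms : List (List (ℕ × ℕ))} {pts : List (ℕ × ℕ)}
    {img : List (List ℕ)}, GoodMats ks ms → imgOK pts ms img = true →
    ∀ k < ks.length, ∀ i < pts.length, (img.getD k []).getD i 0 < pts.length ∧
      mv (val (ks.getD k [])) (vecOf (pts.getD i (0, 0))) =
        vecOf (pts.getD ((img.getD k []).getD i 0) (0, 0))
  | [], _, _, _, _, _, k, hk => absurd hk (Nat.not_lt_zero k)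
  | _ :: _, [], _, _, h, _, _, _ => by simp [GoodMats] at h
  | _ :: _, _ :: _, _, [], _, h, _, _ => by simp [imgOK] at h
  | w :: ks, m :: ms, pts, r :: rs, hm, hi, k, hk => by
    simp only [imgOK, Bool.and_eq_true, Nat.beq_eq] at hi
    rw [GoodMats, List.forall₂_cons] at hm
    obtain ⟨⟨hpk, hM⟩, hm'⟩ := hm
    obtain ⟨⟨hlen, hall⟩, hi'⟩ := hi
    cases k with
    | succ k =>
      simpa using img_spec hm' hi' k (Nat.lt_of_succ_lt_succ hk)
    | zero =>
      intro i hip
      have hir : i < r.length := by omega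
      have hmem : (pts.getD i (0, 0), r.getD i 0) ∈ pts.zip r := by
        rw [List.mem_iff_getElem]
        exact ⟨i, by simp [hip, hir], by
          rw [List.getElem_zip, List.getD_eq_getElem _ _ hip, List.getD_eq_getElem _ _ hir]⟩
      have := List.all_eq_true.mp hall _ hmem
      simp only [Bool.and_eq_true, Nat.blt, Nat.ble_eq, eqP_iff] at this
      obtain ⟨hlt, he⟩ := this
      simp only [List.getD_cons_zero]
      refine ⟨hlt, ?_⟩
      rw [← he, mv]
      exact (vecOf_goV hpk hM _).symm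

theorem par_spec {img : List (List ℕ)} {n : ℕ} : ∀ {l : List (ℕ × ℕ)} {i : ℕ},
    parOK img n l i = true → ∀ j, i ≤ j → j < n →
      ∃ p k, p < j ∧ k < img.length ∧ (img.getD k []).getD p 0 = j
  | [], i, h, j, h1, h2 => by
    rw [parOK, Nat.beq_eq] at h
    omega
  | q :: l, i, h, j, h1, h2 => by
    simp only [parOK, Bool.and_eq_true, Nat.blt, Nat.ble_eq, Nat.beq_eq] at h
    obtain ⟨⟨⟨a, b⟩, c⟩, rest⟩ := h
    rcases Nat.lt_or_eq_of_le h1 with h3 | rfl
    · exact par_spec rest j h3 h2
    · exact ⟨q.1, q.2, a, b, c⟩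

theorem distinct_spec : ∀ {l : List (ℕ × ℕ)}, distinctB l = true → l.Nodup
  | [], _ => List.nodup_nil
  | x :: l, h => by
    simp only [distinctB, Bool.and_eq_true, List.all_eq_true, Bool.not_eq_true'] at h
    refine List.nodup_cons.mpr ⟨fun hx => ?_, distinct_spec h.2⟩
    have := h.1 x hx
    rw [eqP_iff.mpr rfl] at this
    exact absurd this (by simp)

/-- The step of a chain: the orbit length times a factor of the order of the stabilising
generators divides the order. -/
theorem dvd_step_good {ks : List (List ℕ)} {ms : List (List (ℕ × ℕ))} {qs : List ℕ}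
    {pts : List (ℕ × ℕ)} {img : List (List ℕ)} {par : List (ℕ × ℕ)}
    (hm : GoodMats ks ms) (h : stepOK ks ms qs pts img par = true) {d : ℕ}
    (hd : d ∣ Nat.card (gK (qs.map fun j => ks.getD j []))) :
    pts.length * d ∣ Nat.card (gK ks) := by
  simp only [stepOK, Bool.and_eq_true, Nat.blt, Nat.ble_eq, Nat.beq_eq] at h
  obtain ⟨⟨⟨⟨⟨⟨hpos, hsmall⟩, hdist⟩, himg⟩, hpar⟩, hfix⟩, hkl⟩ := h
  have spec := img_spec hm himg
  set v := vecOf (pts.getD 0 (0, 0)) with hv
  let S : Set (Fin 248 → ZMod 3) := {u | ∃ i < pts.length, vecOf (pts.getD i (0, 0)) = u}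
  have hSfin : S.Finite :=
    (Set.finite_range fun i : Fin pts.length => vecOf (pts.getD i (0, 0))).subset
      (fun u ⟨i, hi, e⟩ => ⟨⟨i, hi⟩, e⟩)
  have hclosed : ∀ g ∈ gK ks, ∀ u ∈ S, mv g u ∈ S := by
    intro g hg
    induction hg using Subgroup.closure_induction with
    | mem g hg =>
      obtain ⟨w, hw, rfl⟩ := hg
      obtain ⟨k, hk, rfl⟩ := List.getElem_of_mem hw
      rintro u ⟨i, hi, rfl⟩
      obtain ⟨hlt, e⟩ := spec k hk i hi
      rw [List.getD_eq_getElem _ _ hk] at e
      exact ⟨_, hlt, e.symm⟩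
    | one => exact fun u hu => by rwa [mv_one]
    | mul g g' _ _ ig ig' => exact fun u hu => by rw [mv_mul]; exact ig' _ (ig _ hu)
    | inv g _ ig =>
      intro u hu
      have hinj : Set.InjOn (mv g) S := fun a _ b _ e => by
        have := congrArg (mv g⁻¹) e
        rwa [← mv_mul, ← mv_mul, mul_inv_cancel, mv_one, mv_one] at this
      have him : mv g '' S = S := Set.eq_of_subset_of_ncard_le (Set.image_subset_iff.mpr ig)
        (by rw [Set.ncard_image_of_injOn hinj]) hSfin
      obtain ⟨t, ht, e⟩ := him.symm ▸ hu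
      rw [← e, ← mv_mul, mul_inv_cancel, mv_one]
      exact ht
  let act : MulAction (gK ks) (Fin 248 → ZMod 3) :=
    { smul := fun g u => mv (g : Cfsg.Spor.Th)⁻¹ u
      one_smul := fun u => by
        show mv ((1 : gK ks) : Cfsg.Spor.Th)⁻¹ u = u
        rw [OneMemClass.coe_one, inv_one, mv_one]
      mul_smul := fun g g' u => by
        show mv ((g * g' : gK ks) : Cfsg.Spor.Th)⁻¹ u =
          mv (g : Cfsg.Spor.Th)⁻¹ (mv (g' : Cfsg.Spor.Th)⁻¹ u)
        rw [← mv_mul, ← _root_.mul_inv_rev]
        rfl }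
  letI := act
  have hsmul : ∀ (g : gK ks) (u : Fin 248 → ZMod 3), g • u = mv (g : Cfsg.Spor.Th)⁻¹ u :=
    fun _ _ => rfl
  have horb : MulAction.orbit (gK ks) v = S := by
    refine Set.Subset.antisymm ?_ ?_
    · rintro u ⟨g, rfl⟩
      exact hclosed _ (inv_mem g.2) _ ⟨0, hpos, rfl⟩
    · rintro u ⟨i, hi, rfl⟩
      induction i using Nat.strong_induction_on with
      | _ i ih =>
        rcases Nat.eq_zero_or_pos i with rfl | h0
        · exact MulAction.mem_orbit_self _
        · obtain ⟨p, k, hp, hk, e⟩ := par_spec hpar i h0 hi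
          obtain ⟨g, hg⟩ := ih p hp (lt_trans hp hi)
          obtain ⟨-, e'⟩ := spec k (hkl ▸ hk) p (lt_trans hp hi)
          rw [e] at e'
          have hk' : ks.getD k [] ∈ ks := by
            rw [List.getD_eq_getElem _ _ (hkl ▸ hk)]
            exact List.getElem_mem _
          refine ⟨⟨(val (ks.getD k []))⁻¹, inv_mem (val_mem hk')⟩ * g, ?_⟩
          show _ • v = _
          rw [mul_smul, show g • v = _ from hg, hsmul]
          show mv ((val (ks.getD k []))⁻¹)⁻¹ _ = _
          rw [inv_inv, e']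
  have hncard : S.ncard = pts.length := by
    have hS : S = Set.range fun i : Fin pts.length => vecOf (pts.getD i (0, 0)) := by
      ext u
      exact ⟨fun ⟨i, hi, e⟩ => ⟨⟨i, hi⟩, e⟩, fun ⟨i, e⟩ => ⟨i, i.isLt, e⟩⟩
    rw [hS, ← Nat.card_coe_set_eq, Nat.card_range_of_injective ?_, Nat.card_fin]
    intro a b e
    have hs : ∀ c : Fin pts.length, goodB (pts.getD c (0, 0)) = true ∧
        (pts.getD c (0, 0)).1 < 2 ^ 248 ∧ (pts.getD c (0, 0)).2 < 2 ^ 248 := fun c => by
      have := List.all_eq_true.mp hsmall _ (List.getElem_mem c.isLt)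
      rw [List.getD_eq_getElem _ _ c.isLt]
      simpa [smallB, Nat.blt, Nat.ble_eq, and_assoc] using this
    have := vecOf_inj (hs a).1 (hs b).1 (hs a).2 (hs b).2 e
    rw [List.getD_eq_getElem _ _ a.isLt, List.getD_eq_getElem _ _ b.isLt] at this
    exact Fin.ext ((distinct_spec hdist).getElem_inj_iff.mp this)
  have hidx := MulAction.index_stabilizer (gK ks) v
  rw [horb, hncard] at hidx
  have hle : gK (qs.map fun j => ks.getD j []) ≤
      (MulAction.stabilizer (gK ks) v).map (gK ks).subtype := by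
    refine (Subgroup.closure_le _).mpr ?_
    rintro _ ⟨w, hw, rfl⟩
    obtain ⟨j, hj, rfl⟩ := List.mem_map.mp hw
    have hj' := List.all_eq_true.mp hfix j hj
    simp only [Bool.and_eq_true, Nat.blt, Nat.ble_eq, Nat.beq_eq] at hj'
    obtain ⟨⟨hj1, -⟩, hj0⟩ := hj'
    have hk' : ks.getD j [] ∈ ks := by
      rw [List.getD_eq_getElem _ _ hj1]
      exact List.getElem_mem _
    refine ⟨⟨_, val_mem hk'⟩, ?_, rfl⟩
    obtain ⟨-, e'⟩ := spec j hj1 0 hpos
    rw [hj0] at e'
    show _ • v = v
    rw [hsmul]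
    conv_lhs => rw [hv, ← e']
    rw [← mv_mul, Subgroup.coe_mk, mul_inv_cancel, mv_one]
  have hcard := Subgroup.card_mul_index (MulAction.stabilizer (gK ks) v)
  rw [hidx] at hcard
  rw [← hcard, mul_comm (Nat.card _) pts.length]
  refine Nat.mul_dvd_mul_left _ (hd.trans ((Subgroup.card_dvd_of_le hle).trans ?_))
  rw [Subgroup.card_map_of_injective Subtype.coe_injective]

/-- The step with the rows checked against the letters. -/
theorem dvd_step {ks : List (List ℕ)} {ms : List (List (ℕ × ℕ))} {qs : List ℕ}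
    {pts : List (ℕ × ℕ)} {img : List (List ℕ)} {par : List (ℕ × ℕ)}
    (hm : matsOK ks ms = true) (h : stepOK ks ms qs pts img par = true) {d : ℕ}
    (hd : d ∣ Nat.card (gK (qs.map fun j => ks.getD j []))) :
    pts.length * d ∣ Nat.card (gK ks) :=
  dvd_step_good (goodMats_of_matsOK hm) h hd

end CfsgLib.ThLB32
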