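import Cfsg.Agent.ThLB32.FiveData

/-! Generated: matrices of short pieces. -/

set_option autoImplicit false
set_option maxRecDepth 100000
set_option Elab.async false

namespace CfsgLib.ThLB32.Five

theorem leaf0 : matsOK [w0] [m0] = true := by
  decide +kernel

theorem leaf1 : matsOK [w1] [m1] = true := by
  decide +kernel

theorem leaf3 : matsOK [w3] [m3] = true := by
  decide +kernel

theorem leaf5 : matsOK [w5] [m5] = true := by
  decide +kernel

theorem leaf7 : matsOK [w7] [m7] = true := by
  decide +kernel

theorem leaf8 : matsOK [w8] [m8] = true := by
  decide +kernel

theorem leaf11 : matsOK [w11] [m11] = true := by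
  decide +kernel

theorem leaf14 : matsOK [w14] [m14] = true := by
  decide +kernel

theorem leaf17 : matsOK [w17] [m17] = true := by
  decide +kernel

theorem leaf18 : matsOK [w18] [m18] = true := by
  decide +kernel

theorem leaf20 : matsOK [w20] [m20] = true := by
  decide +kernel

theorem leaf21 : matsOK [w21] [m21] = true := by
  decide +kernel

end CfsgLib.ThLB32.Five
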